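import Mathlib.RingTheory.Trace.Basic
import Mathlib.RingTheory.Etale.Field
import Mathlib.RingTheory.Smooth.Fiber
import Mathlib.RingTheory.Kaehler.TensorProduct
import Mathlib.RingTheory.Finiteness.Nakayama
import Mathlib.RingTheory.TensorProduct.Free
import Mathlib.RingTheory.Artinian.Module
import Mathlib.RingTheory.Unramified.Field
import Mathlib.FieldTheory.IsAlgClosed.AlgebraicClosure
import Mathlib.LinearAlgebra.Trace
import Mathlib.RingTheory.Finiteness.ModuleFinitePresentation

/-!
# Finite free étale algebras and the trace form
-/

set_option autoImplicit false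
universe u v w

namespace Groth.Agent.FiniteEt

open TensorProduct

theorem isSeparable_of_unramified_fields (K L : Type u) [Field K] [Field L] [Algebra K L] [FiniteDimensional K L]
    [Algebra.FormallyUnramified K L] : Algebra.IsSeparable K L :=
  Algebra.FormallyUnramified.isSeparable K L

/-- A reduced finite algebra over a perfect field is étale. -/
theorem formallyEtale_of_isReduced (K : Type u) [Field K] [PerfectField K] (C : Type v) [CommRing C] [Algebra K C]
    [Module.Finite K C] [IsReduced C] : Algebra.FormallyEtale K C := by
  have : IsArtinianRing C := .of_finite K C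
  have (I : MaximalSpectrum C) : Algebra.FormallyEtale K (C ⧸ I.asIdeal) := by
    letI := Ideal.Quotient.field I.asIdeal
    rw [Algebra.FormallyEtale.iff_isSeparable]
    infer_instance
  exact .of_equiv ((IsArtinianRing.equivPi C).restrictScalars K).symm

/-- For a finite algebra over an algebraically closed field the trace matrix is nondegenerate exactly
when the algebra is reduced. -/
theorem det_traceMatrix_ne_zero_iff (K : Type u) [Field K] [IsAlgClosed K] (C : Type v) [CommRing C] [Algebra K C]
    [Module.Finite K C] {ι : Type w} [Fintype ι] [DecidableEq ι] (b : Module.Basis ι K C) :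
    (Algebra.traceMatrix K b).det ≠ 0 ↔ IsReduced C := by
  constructor
  · intro hdet
    refine ⟨fun x hx => ?_⟩
    have hzero : Matrix.mulVec (Algebra.traceMatrix K b) (b.equivFun x) = 0 := by
      rw [Algebra.traceMatrix_of_basis_mulVec]
      funext i
      have : IsNilpotent (x * b i) := (Commute.all _ _).isNilpotent_mul_right hx
      exact (LinearMap.isNilpotent_trace_of_isNilpotent (this.map (Algebra.lmul K C))).eq_zero
    have := Matrix.eq_zero_of_mulVec_eq_zero hdet hzero
    exact b.equivFun.map_eq_zero_iff.mp this
  · intro hC
    have := formallyEtale_of_isReduced K C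
    classical
    let e := Algebra.FormallyEtale.equivPiOfIsSepClosed K C
    haveI : Finite (PrimeSpectrum C) := by
      haveI : IsArtinianRing C := .of_finite K C
      infer_instance
    letI := Fintype.ofFinite (PrimeSpectrum C)
    have htr : ∀ x : C, Algebra.trace K C x = ∑ p, e x p := by
      intro x
      rw [← Algebra.trace_eq_of_algEquiv e, Algebra.trace_apply,
        LinearMap.trace_eq_matrix_trace K (Pi.basisFun K (PrimeSpectrum C))]
      simp only [Matrix.trace, Matrix.diag, LinearMap.toMatrix_apply, Pi.basisFun_repr, Pi.basisFun_apply]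
      simp
    let M : Matrix ι (PrimeSpectrum C) K := Matrix.of fun i p => e (b i) p
    have hTM : Algebra.traceMatrix K b = M * M.transpose := by
      ext i j
      rw [Algebra.traceMatrix_apply, Algebra.traceForm_apply, htr, Matrix.mul_apply]
      simp [M, map_mul]
    intro hdet
    obtain ⟨v, hv, hv0⟩ := Matrix.exists_mulVec_eq_zero_iff.mpr hdet
    apply hv
    set x := b.equivFun.symm v
    have hvx : v = b.equivFun x := (b.equivFun.apply_symm_apply v).symm
    have h2 : ∀ y, Algebra.trace K C (x * y) = 0 := by
      intro y
      rw [← b.sum_repr y, Finset.mul_sum, map_sum]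
      refine Finset.sum_eq_zero fun i _ => ?_
      have := congrFun hv0 i
      rw [hvx, Algebra.traceMatrix_of_basis_mulVec, Pi.zero_apply] at this
      simp only at this
      rw [mul_smul_comm, map_smul, this, smul_zero]
    have hx : x = 0 := by
      apply e.injective
      funext p
      have := h2 (e.symm (Pi.single p 1))
      rw [htr] at this
      simpa [map_mul, Pi.single_apply, Finset.sum_ite_eq'] using this
    rw [hvx, hx, map_zero]

theorem traceMatrix_baseChange (A : Type u) (B : Type v) (K : Type w) [CommRing A] [CommRing B] [Algebra A B]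
    [CommRing K] [Algebra A K] [Module.Finite A B] [Module.Free A B] {ι : Type v} (b : Module.Basis ι A B) :
    Algebra.traceMatrix K (b.baseChange K) = (Algebra.traceMatrix A b).map (algebraMap A K) := by
  ext i j
  rw [Matrix.map_apply, Algebra.traceMatrix_apply, Algebra.traceMatrix_apply, Algebra.traceForm_apply,
    Algebra.traceForm_apply, Module.Basis.baseChange_apply, Module.Basis.baseChange_apply,
    Algebra.TensorProduct.tmul_mul_tmul, one_mul, Algebra.trace_apply, Algebra.trace_apply,
    ← LinearMap.trace_baseChange]
  congr 1
  ext y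
  simp

theorem isUnit_det_iff_etale (A : Type u) (B : Type u) [CommRing A] [CommRing B] [Algebra A B]
    [Module.Finite A B] [Module.Free A B] {ι : Type u} [Fintype ι] [DecidableEq ι] (b : Module.Basis ι A B) :
    IsUnit (Algebra.traceMatrix A b).det ↔ Algebra.Etale A B := by
  constructor
  · intro hu
    haveI : Algebra.FinitePresentation A B :=
      haveI := Module.finitePresentation_of_projective A B
      Algebra.FinitePresentation.of_finitePresentation A B
    haveI : Algebra.FormallyUnramified A B := by
      constructor
      by_contra hne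
      have hfin : Module.Finite A (Ω[B⁄A]) := Module.Finite.trans B _
      obtain ⟨x, hx⟩ := (not_subsingleton_iff_nontrivial.mp hne).exists_pair_ne.imp fun x h => h
      obtain ⟨y, hxy⟩ := hx
      let J := Module.annihilator A (Ω[B⁄A])
      have hJ : J ≠ ⊤ := fun h => by
        have : ∀ z : Ω[B⁄A], z = 0 := fun z => by
          simpa using Module.mem_annihilator.mp (h ▸ Submodule.mem_top : (1 : A) ∈ J) z
        exact hxy ((this x).trans (this y).symm)
      obtain ⟨m, hm, hJm⟩ := Ideal.exists_le_maximal J hJ
      letI := Ideal.Quotient.field m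
      let K := AlgebraicClosure (A ⧸ m)
      haveI : IsReduced (K ⊗[A] B) := by
        rw [← det_traceMatrix_ne_zero_iff K (K ⊗[A] B) (b.baseChange K), traceMatrix_baseChange,
          ← RingHom.mapMatrix_apply, ← RingHom.map_det]
        exact (hu.map (algebraMap A K)).ne_zero
      haveI := formallyEtale_of_isReduced K (K ⊗[A] B)
      letI : Algebra B (K ⊗[A] B) := Algebra.TensorProduct.rightAlgebra
      have h1 : Subsingleton (K ⊗[A] Ω[B⁄A]) :=
        (KaehlerDifferential.tensorKaehlerEquivBase A K B (K ⊗[A] B)).subsingleton
      have h2 : Subsingleton (K ⊗[A ⧸ m] ((A ⧸ m) ⊗[A] Ω[B⁄A])) :=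
        (TensorProduct.AlgebraTensorModule.cancelBaseChange A (A ⧸ m) K K (Ω[B⁄A])).subsingleton
      have h3 : Subsingleton ((A ⧸ m) ⊗[A] Ω[B⁄A]) :=
        Module.FaithfullyFlat.lTensor_reflects_triviality (A ⧸ m) K _
      have h4 : (⊤ : Submodule A (Ω[B⁄A])) ≤ m • ⊤ := by
        have := (TensorProduct.quotTensorEquivQuotSMul (Ω[B⁄A]) m).symm.subsingleton
        exact le_of_eq (Submodule.Quotient.subsingleton_iff.mp this).symm
      obtain ⟨r, hr1, hr⟩ := Submodule.exists_sub_one_mem_and_smul_eq_zero_of_fg_of_le_smul m ⊤
        Module.Finite.fg_top h4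
      have : r ∈ m := hJm (Module.mem_annihilator.mpr fun z => hr z trivial)
      exact hm.ne_top ((Ideal.eq_top_iff_one m).mpr (by simpa using sub_mem this hr1))
    exact Algebra.Etale.of_formallyUnramified_of_flat
  · intro h
    by_contra hu
    obtain ⟨m, hm, hdm⟩ := exists_max_ideal_of_mem_nonunits hu
    letI := Ideal.Quotient.field m
    let K := AlgebraicClosure (A ⧸ m)
    haveI : IsReduced (K ⊗[A] B) := Algebra.FormallyUnramified.isReduced_of_field K (K ⊗[A] B)
    have hne := (det_traceMatrix_ne_zero_iff K (K ⊗[A] B) (b.baseChange K)).mpr inferInstance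
    rw [traceMatrix_baseChange, ← RingHom.mapMatrix_apply, ← RingHom.map_det,
      IsScalarTower.algebraMap_apply A (A ⧸ m) K] at hne
    exact hne (by rw [Ideal.Quotient.algebraMap_eq, Ideal.Quotient.eq_zero_iff_mem.mpr hdm, map_zero])

end Groth.Agent.FiniteEt
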